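import Mathlib

/-!
Averaging over a group of odd order modulo a subgroup acting trivially.
-/

set_option autoImplicit false

namespace Cfsg.Agent.Lib.IsolatedPoint

open Subgroup

variable {G : Type*} [Group G] [Finite G]

/-- An involution `z t s` fixed by `L` is fixed by all that permutes the odd set `O` containing
`z`, `t` and `s`, when `L` is transitive on `O` and induces a group of odd order. -/
theorem average_fixed (R L : Subgroup G) (hLn : L ≤ normalizer (R : Set G))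
    (hodd : Odd (R.relIndex L)) (O : Set G) (hOV : O ⊆ (R ⊓ centralizer (R : Set G) : Subgroup G))
    (hsq : ∀ a ∈ O, a * a = 1) (hOodd : Odd (Nat.card O)) {z : G} (hz : z ∈ O)
    (htrans : ∀ a ∈ O, ∃ n ∈ L, n * z * n⁻¹ = a)
    (hinv : ∀ g ∈ normalizer (R : Set G), ∀ a ∈ O, g * a * g⁻¹ ∈ O) {t s : G} (ht : t ∈ O)
    (hs : s ∈ O) (hfix : ∀ n ∈ L, n * (z * t * s) = z * t * s * n) {g : G}
    (hg : g ∈ normalizer (R : Set G)) : g * (z * t * s) = z * t * s * g := by
  classical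
  obtain ⟨V, hV⟩ : ∃ V, V = R ⊓ centralizer (R : Set G) := ⟨_, rfl⟩
  rw [← hV] at hOV
  have hmemV : ∀ {v : G}, v ∈ V → v ∈ R ∧ v ∈ centralizer (R : Set G) := by
    intro v hv
    rw [hV] at hv
    exact mem_inf.mp hv
  have hcomm : ∀ {r v : G}, r ∈ R → v ∈ V → r * v = v * r := fun {r v} hr hv =>
    mem_centralizer_iff.mp (hmemV hv).2 r hr
  letI : CommGroup V :=
    { (inferInstance : Group V) with
      mul_comm := fun a b => Subtype.ext (hcomm (hmemV a.2).1 b.2) }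
  let N := normalizer (R : Set G)
  have hconj : ∀ (n : N) (v : V), (n : G) * v * (n : G)⁻¹ ∈ V := by
    rintro ⟨n, hn⟩ ⟨v, hv⟩
    have hv' := hmemV hv
    suffices h : n * v * n⁻¹ ∈ R ⊓ centralizer (R : Set G) by rw [← hV] at h; exact h
    rw [mem_inf]
    refine ⟨(mem_normalizer_iff.mp hn v).mp hv'.1, mem_centralizer_iff.mpr fun r hr => ?_⟩
    have hr' : n⁻¹ * r * n ∈ R := by
      refine (mem_normalizer_iff.mp hn _).mpr ?_
      rwa [show n * (n⁻¹ * r * n) * n⁻¹ = r by group]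
    calc r * (n * v * n⁻¹) = n * ((n⁻¹ * r * n) * v) * n⁻¹ := by group
      _ = n * (v * (n⁻¹ * r * n)) * n⁻¹ := by rw [hcomm hr' hv]
      _ = n * v * n⁻¹ * r := by group
  let φ : N → V →* V := fun n =>
    MonoidHom.mk' (fun v => ⟨(n : G) * v * (n : G)⁻¹, hconj n v⟩) fun a b => Subtype.ext (by
      show (n : G) * ((a : G) * b) * (n : G)⁻¹ = _
      simp only [coe_mul]
      group)
  have hφ : ∀ (n : N) (v : V), ((φ n v : V) : G) = (n : G) * v * (n : G)⁻¹ := fun _ _ => rfl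
  have hφmul : ∀ (a b : N) (v : V), φ a (φ b v) = φ (a * b) v := fun a b v => Subtype.ext (by
    rw [hφ, hφ, hφ, coe_mul]
    group)
  let R' := R.subgroupOf L
  haveI : R'.Normal := ⟨fun r hr l => (mem_normalizer_iff.mp (hLn l.2) r).mp hr⟩
  have hm : Odd (Nat.card (L ⧸ R')) := hodd
  let ι : L →* N := inclusion hLn
  have hout : ∀ (l : L) (v : V), φ (ι (Quotient.out (l : L ⧸ R'))) v = φ (ι l) v := by
    intro l v
    obtain ⟨⟨r, hr⟩, hre⟩ := QuotientGroup.mk_out_eq_mul R' l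
    rw [hre, map_mul, ← hφmul]
    congr 1
    refine Subtype.ext ?_
    rw [hφ]
    exact mul_inv_eq_iff_eq_mul.mpr (hcomm (mem_subgroupOf.mp hr) v.2)
  haveI := Fintype.ofFinite (L ⧸ R')
  let F : V →* V := ∏ x : L ⧸ R', φ (ι (Quotient.out x))
  have hF : ∀ v, F v = ∏ x : L ⧸ R', φ (ι (Quotient.out x)) v := fun v => by
    simp [F, MonoidHom.finsetProd_apply]
  have hFinv : ∀ (l : L) (v : V), F (φ (ι l) v) = F v := by
    intro l v
    rw [hF, hF]
    refine Fintype.prod_equiv (Equiv.mulRight (l : L ⧸ R')) _ _ fun x => ?_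
    rw [hφmul, ← map_mul, Equiv.coe_mulRight]
    conv_rhs =>
      beta_reduce
      rw [← QuotientGroup.out_eq' x, ← QuotientGroup.mk_mul, hout]
  have hFfix : ∀ v : V, (∀ l : L, φ (ι l) v = v) → v * v = 1 → F v = v := by
    intro v hv hvv
    obtain ⟨k, hk⟩ := hm
    rw [hF, Finset.prod_congr rfl fun x _ => hv _, Finset.prod_const, Finset.card_univ,
      ← Nat.card_eq_fintype_card, hk, pow_succ, pow_mul, sq, hvv, one_pow, one_mul]
  haveI := Fintype.ofFinite O
  let e : O → V := fun a => ⟨a, hOV a.2⟩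
  have hee : ∀ a : O, e a * e a = 1 := fun a => Subtype.ext (hsq a a.2)
  let σ : V := ∏ a : O, e a
  have hσσ : σ * σ = 1 := by
    rw [← Finset.prod_mul_distrib]
    exact Finset.prod_eq_one fun a _ => hee a
  have hσinv : ∀ n : N, φ n σ = σ := by
    intro n
    rw [map_prod]
    let f : O → O := fun a => ⟨(n : G) * a * (n : G)⁻¹, hinv n n.2 a a.2⟩
    have hf : Function.Bijective f := Finite.injective_iff_bijective.mp fun a b hab =>
      Subtype.ext (mul_left_cancel (mul_right_cancel (congrArg Subtype.val hab)))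
    exact Fintype.prod_bijective f hf _ _ fun a => Subtype.ext rfl
  have hFe : ∀ a : O, F (e a) = F (e ⟨z, hz⟩) := by
    intro a
    obtain ⟨n, hn, hna⟩ := htrans a a.2
    rw [← hFinv ⟨n, hn⟩ (e ⟨z, hz⟩)]
    exact congrArg F (Subtype.ext hna.symm)
  have hFz : F (e ⟨z, hz⟩) * F (e ⟨z, hz⟩) = 1 := by rw [← map_mul, hee, map_one]
  obtain ⟨u, hu⟩ : ∃ u : V, u = e ⟨z, hz⟩ * e ⟨t, ht⟩ * e ⟨s, hs⟩ := ⟨_, rfl⟩
  have huu : u * u = 1 := by
    rw [hu, mul_mul_mul_comm, mul_mul_mul_comm (e ⟨z, hz⟩), hee, hee, hee, one_mul, one_mul]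
  have hufix : ∀ l : L, φ (ι l) u = u := fun l => Subtype.ext (by
    rw [hφ, hu]
    exact mul_inv_eq_iff_eq_mul.mpr (hfix l l.2))
  have hu2 : u = F (e ⟨z, hz⟩) := by
    rw [← hFfix u hufix huu, hu, map_mul, map_mul, hFe ⟨t, ht⟩, hFe ⟨s, hs⟩, hFz, one_mul]
  have hσ2 : σ = F (e ⟨z, hz⟩) := by
    obtain ⟨k, hk⟩ := hOodd
    rw [← hFfix σ (fun l => hσinv _) hσσ, map_prod, Finset.prod_congr rfl fun a _ => hFe a,
      Finset.prod_const, Finset.card_univ, ← Nat.card_eq_fintype_card, hk, pow_succ, pow_mul, sq,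
      hFz, one_pow, one_mul]
  have hgu := congrArg Subtype.val (hσinv ⟨g, hg⟩)
  rw [hσ2, ← hu2, hφ, hu] at hgu
  exact mul_inv_eq_iff_eq_mul.mp hgu

end Cfsg.Agent.Lib.IsolatedPoint
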