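import Mathlib
import Cfsg.Agent.Lib.ConjFunctor.Basic

/-!
An involution lying in a unique conjugate of a proper subgroup: products of conjugates.
-/

set_option autoImplicit false

namespace Cfsg.Agent.Lib.IsolatedPoint

open Subgroup
open Cfsg.Agent.Lib.ConjFunctor (cj mem_cj cj_le_iff cj_mono)

variable {G : Type*} [Group G]

theorem comm_iff_inv_eq {a b : G} (ha : a * a = 1) (hb : b * b = 1) :
    (a * b) * (a * b) = 1 ↔ a * b = b * a := by
  rw [← eq_inv_iff_mul_eq_one, mul_inv_rev, inv_eq_of_mul_eq_one_right ha,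
    inv_eq_of_mul_eq_one_right hb]

/-- `z` fixes one point of `G ⧸ H`, and so does `z * t` for each conjugate `t` commuting with it. -/
structure Setup (z : G) (H : Subgroup G) : Prop where
  sq : z * z = 1
  ne_one : z ≠ 1
  proper : H ≠ ⊤
  fix : ∀ g : G, z ∈ cj g H ↔ g ∈ H
  prod : ∀ t : G, IsConj z t → t ≠ z → t * z = z * t → ∀ g : G, z * t ∈ cj g H ↔ g ∈ H

namespace Setup

variable {z : G} {H : Subgroup G} (h : Setup z H)
include h

theorem mem : z ∈ H := by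
  have h1 := (h.fix 1).mpr H.one_mem
  rwa [ConjFunctor.cj_one] at h1

theorem conj_mem_iff (g : G) : g * z * g⁻¹ ∈ H ↔ g ∈ H := by
  have h1 := h.fix g⁻¹
  rw [mem_cj, inv_inv, inv_mem_iff] at h1
  exact h1

theorem centralizer_le : centralizer {z} ≤ H := fun c hc => by
  rw [← h.conj_mem_iff, mul_inv_eq_iff_eq_mul.mpr (mem_centralizer_singleton_iff.mp hc)]
  exact h.mem

theorem mem_of_comm {a : G} (ha : a * z = z * a) : a ∈ H :=
  h.centralizer_le (mem_centralizer_singleton_iff.mpr ha)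

theorem sq_of_conj {a : G} (ha : IsConj z a) : a * a = 1 := by
  obtain ⟨c, rfl⟩ := isConj_iff.mp ha
  rw [show c * z * c⁻¹ * (c * z * c⁻¹) = c * (z * z) * c⁻¹ by group, h.sq]
  group

theorem centralizer_prod_le {t : G} (ht : IsConj z t) (hne : t ≠ z) (hc : t * z = z * t) {c : G}
    (hcj : c * (z * t) = (z * t) * c) : c ∈ H := by
  rw [← inv_mem_iff, ← h.prod t ht hne hc, mem_cj, inv_inv]
  rw [hcj, mul_inv_cancel_right]
  exact H.mul_mem h.mem (h.mem_of_comm hc)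

/-- A conjugate of `z` times a central element of `G` contained in `H` is no conjugate. -/
theorem not_conj_mul_central {u : G} (huc : ∀ g : G, g * u = u * g) (hu1 : u ≠ 1) (huH : u ∈ H)
    {a : G} (ha : IsConj z a) : ¬ IsConj z (a * u) := by
  intro hau
  obtain ⟨c, hc⟩ := isConj_iff.mp ha
  have hzu : IsConj z (z * u) := by
    refine hau.trans (isConj_iff.mpr ⟨c⁻¹, ?_⟩)
    calc c⁻¹ * (a * u) * c⁻¹⁻¹ = (c⁻¹ * a * c) * (c⁻¹ * u * c) := by group
      _ = z * u := by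
        rw [← hc, huc c⁻¹, inv_mul_cancel_right]
        group
  have hne : z * u ≠ z := fun he => hu1 (mul_eq_left.mp he)
  have hcomm : z * u * z = z * (z * u) := by rw [mul_assoc z u z, ← huc z]
  refine h.proper (eq_top_iff.mpr fun g _ => (h.prod _ hzu hne hcomm g).mp ?_)
  rw [← mul_assoc, h.sq, one_mul, mem_cj, huc g⁻¹, inv_mul_cancel_right]
  exact huH

/-- An element conjugating a conjugate of `z` into its coset modulo a central `u` centralises it. -/
theorem comm_of_comm_mod {u : G} (huc : ∀ g : G, g * u = u * g) (hu1 : u ≠ 1) (huH : u ∈ H)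
    {a : G} (ha : IsConj z a) {q : G} (hq : q * a * q⁻¹ = a ∨ q * a * q⁻¹ = a * u) :
    q * a = a * q := by
  rcases hq with hq | hq
  · exact mul_inv_eq_iff_eq_mul.mp hq
  · exact absurd (hq ▸ ha.trans (isConj_iff.mpr ⟨q, rfl⟩)) (h.not_conj_mul_central huc hu1 huH ha)

end Setup

/-- An involution commuting with `z` and with a conjugate of `z` fixing another point. -/
def Bad (z : G) (H : Subgroup G) (i : G) : Prop :=
  i * i = 1 ∧ i ≠ 1 ∧ i * z = z * i ∧ ∃ g : G, g ∉ H ∧ i * (g * z * g⁻¹) = (g * z * g⁻¹) * i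

namespace Setup

variable [Finite G] {z : G} {H : Subgroup G} (h : Setup z H)
include h

omit [Finite G] in
/-- `c`, central in the dihedral group of `z` and `g z g⁻¹`, cannot make `z c` a conjugate. -/
theorem not_conj_mul {g c : G} (hg : g ∉ H) (hc : c ≠ 1) (hcz : c * z = z * c)
    (hcb : c * (g * z * g⁻¹) = (g * z * g⁻¹) * c) : ¬ IsConj z (z * c) := by
  intro hconj
  have hne : z * c ≠ z := fun he => hc (mul_eq_left.mp he)
  have hcomm : z * c * z = z * (z * c) := by rw [mul_assoc, hcz]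
  refine hg ((h.prod _ hconj hne hcomm g).mp ?_)
  rw [← mul_assoc, h.sq, one_mul, mem_cj]
  refine h.mem_of_comm ?_
  calc g⁻¹ * c * g * z = g⁻¹ * (c * (g * z * g⁻¹)) * g := by group
    _ = g⁻¹ * ((g * z * g⁻¹) * c) * g := by rw [hcb]
    _ = z * (g⁻¹ * c * g) := by group

/-- Conjugates of `z` fixing different points have product of odd order. -/
theorem odd_orderOf {g : G} (hg : g ∉ H) : Odd (orderOf (z * (g * z * g⁻¹))) := by
  set b := g * z * g⁻¹ with hb
  have hbc : IsConj z b := isConj_iff.mpr ⟨g, rfl⟩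
  have hbb : b * b = 1 := h.sq_of_conj hbc
  clear_value b
  set d := z * b with hd
  rw [← Nat.not_even_iff_odd]
  rintro ⟨m, hm⟩
  set c := d ^ m with hcdef
  have hord := orderOf_pos d
  have hdz : z * d * z⁻¹ = d⁻¹ := by
    rw [hd, mul_inv_rev, inv_eq_of_mul_eq_one_right hbb, ← mul_assoc z z b, h.sq, one_mul,
      inv_eq_of_mul_eq_one_right h.sq]
  have hdb : b * d * b⁻¹ = d⁻¹ := by
    rw [hd, mul_inv_rev, inv_eq_of_mul_eq_one_right hbb, inv_eq_of_mul_eq_one_right h.sq]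
    calc b * (z * b) * b = b * z * (b * b) := by group
      _ = b * z := by rw [hbb, mul_one]
  have hc2 : c * c = 1 := by rw [hcdef, ← pow_add, ← hm, pow_orderOf_eq_one]
  have hc1 : c ≠ 1 := by
    intro he
    have := orderOf_dvd_of_pow_eq_one (hcdef ▸ he)
    have hle := Nat.le_of_dvd (by omega) this
    omega
  have hcinv : c⁻¹ = c := inv_eq_of_mul_eq_one_right hc2
  have hcz : c * z = z * c := by
    have h1 : z * c * z⁻¹ = c := by rw [hcdef, ← conj_pow, hdz, inv_pow, ← hcdef, hcinv]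
    exact (mul_inv_eq_iff_eq_mul.mp h1).symm
  have hcb : c * b = b * c := by
    have h1 : b * c * b⁻¹ = c := by rw [hcdef, ← conj_pow, hdb, inv_pow, ← hcdef, hcinv]
    exact (mul_inv_eq_iff_eq_mul.mp h1).symm
  refine h.not_conj_mul hg hc1 hcz (hb ▸ hcb) ?_
  rcases Nat.even_or_odd m with ⟨l, hl⟩ | ⟨l, hl⟩
  · refine isConj_iff.mpr ⟨(d ^ l)⁻¹, ?_⟩
    have h1 : z * d ^ l * z⁻¹ = (d ^ l)⁻¹ := by rw [← conj_pow, hdz, inv_pow]
    calc (d ^ l)⁻¹ * z * (d ^ l)⁻¹⁻¹ = (z * d ^ l * z⁻¹) * z * d ^ l := by rw [h1, inv_inv]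
      _ = z * c := by rw [hcdef, hl, pow_add]; group
  · refine hbc.trans (isConj_iff.mpr ⟨(d ^ l)⁻¹, ?_⟩)
    have h1 : z * d ^ l * z⁻¹ = (d ^ l)⁻¹ := by rw [← conj_pow, hdz, inv_pow]
    have h2 : b = z * d := by rw [hd, ← mul_assoc, h.sq, one_mul]
    calc (d ^ l)⁻¹ * b * (d ^ l)⁻¹⁻¹ = (z * d ^ l * z⁻¹) * (z * d) * d ^ l := by
          rw [h1, h2, inv_inv]
      _ = z * (d ^ l * d * d ^ l) := by group
      _ = z * c := by rw [hcdef, hl, ← pow_succ, ← pow_add]; congr 2; omega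

/-- They are conjugate inside any subgroup containing them. -/
theorem exists_conj {g : G} (hg : g ∉ H) {K : Subgroup G} (hzK : z ∈ K) (hK : g * z * g⁻¹ ∈ K) :
    ∃ k ∈ K, k * z * k⁻¹ = g * z * g⁻¹ := by
  set b := g * z * g⁻¹ with hb
  have hbb : b * b = 1 := h.sq_of_conj (isConj_iff.mpr ⟨g, rfl⟩)
  obtain ⟨l, hl⟩ := h.odd_orderOf hg
  rw [← hb] at hl
  clear_value b
  set d := z * b with hd
  have hdz : z * d * z⁻¹ = d⁻¹ := by
    rw [hd, mul_inv_rev, inv_eq_of_mul_eq_one_right hbb, ← mul_assoc z z b, h.sq, one_mul,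
      inv_eq_of_mul_eq_one_right h.sq]
  refine ⟨d ^ l, K.pow_mem (K.mul_mem hzK hK) l, ?_⟩
  have h1 : z * (d ^ l)⁻¹ * z⁻¹ = d ^ l := by
    rw [show z * (d ^ l)⁻¹ * z⁻¹ = (z * d ^ l * z⁻¹)⁻¹ by group, ← conj_pow, hdz, inv_pow, inv_inv]
  have h2 : d ^ (2 * l) = d⁻¹ := by
    rw [eq_inv_iff_mul_eq_one, ← pow_succ, ← hl, pow_orderOf_eq_one]
  calc d ^ l * z * (d ^ l)⁻¹ = d ^ l * (z * (d ^ l)⁻¹ * z⁻¹) * z := by group
    _ = d ^ (2 * l) * z := by rw [h1, ← pow_add, two_mul]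
    _ = b := by
      rw [h2, hd, mul_inv_rev, inv_eq_of_mul_eq_one_right h.sq, mul_assoc, h.sq, mul_one,
        inv_eq_of_mul_eq_one_right hbb]

/-- Conjugates of `z` in a subgroup containing one fixing another point are conjugate there. -/
theorem exists_conj_of_mem {g : G} (hg : g ∉ H) {K : Subgroup G} (hzK : z ∈ K)
    (hgK : g * z * g⁻¹ ∈ K) {t : G} (ht : IsConj z t) (htK : t ∈ K) :
    ∃ k ∈ K, k * z * k⁻¹ = t := by
  obtain ⟨e, rfl⟩ := isConj_iff.mp ht
  by_cases he : e ∈ H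
  · obtain ⟨k₁, hk₁, hk₁e⟩ := h.exists_conj hg hzK hgK
    have hg' : e⁻¹ * g ∉ H := fun hh => hg (by
      have := H.mul_mem he hh
      rwa [mul_inv_cancel_left] at this)
    obtain ⟨k₂, hk₂, hk₂e⟩ := h.exists_conj hg' (K := K.map (MulAut.conj e⁻¹).toMonoidHom)
      (by rw [mem_cj, inv_inv]; exact htK)
      (by
        rw [mem_cj, inv_inv]
        rwa [show e * (e⁻¹ * g * z * (e⁻¹ * g)⁻¹) * e⁻¹ = g * z * g⁻¹ by group])
    rw [mem_cj, inv_inv] at hk₂
    refine ⟨(e * k₂ * e⁻¹)⁻¹ * k₁, K.mul_mem (K.inv_mem hk₂) hk₁, ?_⟩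
    calc (e * k₂ * e⁻¹)⁻¹ * k₁ * z * ((e * k₂ * e⁻¹)⁻¹ * k₁)⁻¹
        = e * k₂⁻¹ * e⁻¹ * (k₁ * z * k₁⁻¹) * e * k₂ * e⁻¹ := by group
      _ = e * k₂⁻¹ * e⁻¹ * (g * z * g⁻¹) * e * k₂ * e⁻¹ := by rw [hk₁e]
      _ = e * k₂⁻¹ * (e⁻¹ * g * z * (e⁻¹ * g)⁻¹) * k₂ * e⁻¹ := by group
      _ = e * k₂⁻¹ * (k₂ * z * k₂⁻¹) * k₂ * e⁻¹ := by rw [hk₂e]
      _ = e * z * e⁻¹ := by group
  · exact h.exists_conj he hzK htK

/-- If the product `z * t` is no conjugate of `z`, some involution is bad. -/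
theorem exists_bad {t : G} (ht : IsConj z t) (hne : t ≠ z) (hc : t * z = z * t)
    (hj : ¬ IsConj z (z * t)) : ∃ i, Bad z H i := by
  obtain ⟨g, -, hg⟩ := SetLike.exists_of_lt (lt_top_iff_ne_top.mpr h.proper)
  obtain ⟨j, hjdef⟩ : ∃ j, j = z * t := ⟨_, rfl⟩
  rw [← hjdef] at hj
  set b := g * z * g⁻¹ with hb
  have hbc : IsConj z b := isConj_iff.mpr ⟨g, rfl⟩
  have hbb : b * b = 1 := h.sq_of_conj hbc
  have htt : t * t = 1 := h.sq_of_conj ht
  have hjj : j * j = 1 := by rw [hjdef]; exact (comm_iff_inv_eq h.sq htt).mpr hc.symm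
  clear_value b
  set d := j * b with hd
  clear_value d
  have hdj : j * d * j⁻¹ = d⁻¹ := by
    rw [hd, mul_inv_rev, inv_eq_of_mul_eq_one_right hbb, ← mul_assoc j j b, hjj, one_mul,
      inv_eq_of_mul_eq_one_right hjj]
  have h2 : b = j * d := by rw [hd, ← mul_assoc, hjj, one_mul]
  rcases Nat.even_or_odd (orderOf d) with ⟨m, hm⟩ | ⟨l, hl⟩
  · set i := d ^ m with hidef
    have hord := orderOf_pos d
    have hii : i * i = 1 := by rw [hidef, ← pow_add, ← hm, pow_orderOf_eq_one]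
    have hi1 : i ≠ 1 := by
      intro he
      have hle := Nat.le_of_dvd (by omega) (orderOf_dvd_of_pow_eq_one (hidef ▸ he))
      omega
    have hiinv : i⁻¹ = i := inv_eq_of_mul_eq_one_right hii
    have hij : i * j = j * i := by
      have h1 : j * i * j⁻¹ = i := by rw [hidef, ← conj_pow, hdj, inv_pow, ← hidef, hiinv]
      exact (mul_inv_eq_iff_eq_mul.mp h1).symm
    have hid : i * d = d * i := (Commute.pow_self d m).eq
    have hib : i * b = b * i := by rw [h2, ← mul_assoc, hij, mul_assoc, hid, mul_assoc]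
    have hiH : i ∈ H := h.centralizer_prod_le ht hne hc (hjdef ▸ hij)
    rcases Nat.even_or_odd m with ⟨l, hl⟩ | ⟨l, hl⟩
    · exfalso
      have hbi : IsConj z (b * i) := by
        refine hbc.trans (isConj_iff.mpr ⟨(d ^ l)⁻¹, ?_⟩)
        have h1 : j * d ^ l * j⁻¹ = (d ^ l)⁻¹ := by rw [← conj_pow, hdj, inv_pow]
        calc (d ^ l)⁻¹ * b * (d ^ l)⁻¹⁻¹ = (j * d ^ l * j⁻¹) * (j * d) * d ^ l := by
              rw [h1, h2, inv_inv]
          _ = (j * d) * (d ^ l * d ^ l) := by group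
          _ = b * i := by rw [← h2, hidef, hl, pow_add]
      set t' := g⁻¹ * (b * i) * g with ht'
      have ht'c : IsConj z t' := hbi.trans (isConj_iff.mpr ⟨g⁻¹, by rw [ht', inv_inv]⟩)
      have ht'e : t' = z * (g⁻¹ * i * g) := by rw [ht', hb]; group
      have hne' : t' ≠ z := fun he => hi1 (by
        rw [ht'e, mul_eq_left] at he
        calc i = g * (g⁻¹ * i * g) * g⁻¹ := by group
          _ = 1 := by rw [he]; group)
      have hcom' : t' * z = z * t' := by
        rw [ht'e]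
        calc z * (g⁻¹ * i * g) * z = z * g⁻¹ * (i * b) * g := by rw [hb]; group
          _ = z * g⁻¹ * (b * i) * g := by rw [hib]
          _ = z * (z * (g⁻¹ * i * g)) := by rw [hb]; group
      have hmem := (h.prod t' ht'c hne' hcom' g⁻¹).mp (by
        rw [ht'e, ← mul_assoc, h.sq, one_mul, mem_cj, inv_inv]
        rwa [show g * (g⁻¹ * i * g) * g⁻¹ = i by group])
      exact hg (inv_mem_iff.mp hmem)
    · have hs : IsConj z (j * i) := by
        refine hbc.trans (isConj_iff.mpr ⟨(d ^ l)⁻¹, ?_⟩)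
        have h1 : j * d ^ l * j⁻¹ = (d ^ l)⁻¹ := by rw [← conj_pow, hdj, inv_pow]
        calc (d ^ l)⁻¹ * b * (d ^ l)⁻¹⁻¹ = (j * d ^ l * j⁻¹) * (j * d) * d ^ l := by
              rw [h1, h2, inv_inv]
          _ = j * (d ^ l * d * d ^ l) := by group
          _ = j * i := by rw [hidef, hl, ← pow_succ, ← pow_add]; congr 2; omega
      obtain ⟨e, he⟩ := isConj_iff.mp hs
      have hjc : (j * i) * j = j * (j * i) := by rw [mul_assoc, hij]
      have hsH : j * i ∈ H := h.centralizer_prod_le ht hne hc (hjdef ▸ hjc)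
      have heH : e ∈ H := by rwa [← h.conj_mem_iff, he]
      refine ⟨e⁻¹ * i * e, ?_, ?_, ?_, e⁻¹ * g, ?_, ?_⟩
      · rw [show e⁻¹ * i * e * (e⁻¹ * i * e) = e⁻¹ * (i * i) * e by group, hii]; group
      · intro hh
        refine hi1 ?_
        calc i = e * (e⁻¹ * i * e) * e⁻¹ := by group
          _ = 1 := by rw [hh]; group
      · have hze : z = e⁻¹ * (j * i) * e := by rw [← he]; group
        rw [hze]
        calc e⁻¹ * i * e * (e⁻¹ * (j * i) * e) = e⁻¹ * (i * j * i) * e := by group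
          _ = e⁻¹ * (j * i * i) * e := by rw [hij]
          _ = e⁻¹ * (j * i) * e * (e⁻¹ * i * e) := by group
      · intro hh
        exact hg (by simpa using H.mul_mem heH hh)
      · calc e⁻¹ * i * e * (e⁻¹ * g * z * (e⁻¹ * g)⁻¹) = e⁻¹ * (i * b) * e := by rw [hb]; group
          _ = e⁻¹ * (b * i) * e := by rw [hib]
          _ = e⁻¹ * g * z * (e⁻¹ * g)⁻¹ * (e⁻¹ * i * e) := by rw [hb]; group
  · exfalso
    refine hj (hbc.trans (isConj_iff.mpr ⟨(d ^ l)⁻¹, ?_⟩))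
    have h1 : j * d ^ l * j⁻¹ = (d ^ l)⁻¹ := by rw [← conj_pow, hdj, inv_pow]
    calc (d ^ l)⁻¹ * b * (d ^ l)⁻¹⁻¹ = (j * d ^ l * j⁻¹) * (j * d) * d ^ l := by
          rw [h1, h2, inv_inv]
      _ = j * (d ^ l * d * d ^ l) := by group
      _ = j := by
        rw [← pow_succ, ← pow_add, show l + 1 + l = orderOf d by omega, pow_orderOf_eq_one, mul_one]

end Setup

end Cfsg.Agent.Lib.IsolatedPoint
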