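import Mathlib
import Cfsg.Agent.Lib.IsolatedPoint.Defs

/-!
An isolated involution is 2-central.
-/

set_option autoImplicit false

namespace Cfsg.Agent.Lib.IsolatedPoint

open Subgroup
open Cfsg.Agent.Lib.ConjFunctor (cj mem_cj cj_le_iff cj_mono)

variable {G : Type*} [Group G]

/-- A 2-subgroup of `C(z)` of odd index. -/
structure IsCSylow (z : G) (C S : Subgroup G) : Prop where
  le : S ≤ C ⊓ centralizer {z}
  pgroup : IsPGroup 2 S
  index : ¬ 2 ∣ S.relIndex (C ⊓ centralizer {z})

/-- Conjugates of `z` centralising `S`. -/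
def OSet (z : G) (S : Subgroup G) : Set G := {a | IsConj z a ∧ a ∈ centralizer (S : Set G)}

theorem mem_centralizer_zero {z : G} {C S : Subgroup G} (hS : IsCSylow z C S) {y : G}
    (hy : y ∈ S) : y * z = z * y :=
  mem_centralizer_singleton_iff.mp (mem_inf.mp (hS.le hy)).2

section Finite

variable [Finite G]

theorem exists_csylow (z : G) (C : Subgroup G) : ∃ S, IsCSylow z C S := by
  haveI : Fact (Nat.Prime 2) := ⟨Nat.prime_two⟩
  obtain ⟨Q, -, hQ, hQp, hQi⟩ :=
    ConjFunctor.exists_sylow_above (p := 2) (bot_le : (⊥ : Subgroup G) ≤ C ⊓ centralizer {z}) IsPGroup.of_bot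
  exact ⟨Q, hQ, hQp, hQi⟩

theorem mem_csylow {z : G} {C S : Subgroup G} (hS : IsCSylow z C S) {a : G} (haC : a ∈ C)
    (haz : a * z = z * a) (ha : a * a = 1) (hcom : ∀ y ∈ S, y * a = a * y) : a ∈ S := by
  haveI : Fact (Nat.Prime 2) := ⟨Nat.prime_two⟩
  have hp : IsPGroup 2 ↥(S ⊔ zpowers a) := by
    refine hS.pgroup.to_sup_of_normal_left' ?_ ?_
    · rintro ⟨y, hy⟩
      refine ⟨1, Subtype.ext ?_⟩
      obtain ⟨i, rfl⟩ := mem_zpowers_iff.mp hy
      show (a ^ i) ^ (2 ^ 1) = 1
      rw [pow_one, sq, ← (show Commute a a from rfl).mul_zpow, ha, one_zpow]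
    · refine zpowers_le.mpr (mem_normalizer_iff.mpr fun y => ⟨fun hy => ?_, fun hy => ?_⟩)
      · rwa [← hcom y hy, mul_inv_cancel_right]
      · have h1 := hcom _ hy
        rw [inv_mul_cancel_right] at h1
        have : y = a * y * a⁻¹ := mul_left_cancel (a := a) (by rw [← h1])
        rwa [this]
  have hle : S ⊔ zpowers a ≤ C ⊓ centralizer {z} :=
    sup_le hS.le (zpowers_le.mpr (mem_inf.mpr ⟨haC, mem_centralizer_singleton_iff.mpr haz⟩))
  have := ConjFunctor.eq_of_sylow_le hle hp le_sup_left hS.index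
  rw [this]
  exact mem_sup_right (mem_zpowers a)

theorem z_mem {z : G} {C S : Subgroup G} (hS : IsCSylow z C S) (hz : z * z = 1) (hzC : z ∈ C) :
    z ∈ S :=
  mem_csylow hS hzC rfl hz fun _ hy => mem_centralizer_zero hS hy

theorem mem_of_oset {z : G} {H : Subgroup G} (h : Setup z H) {C S : Subgroup G}
    (hS : IsCSylow z C S) (hzC : z ∈ C) {a : G} (ha : a ∈ OSet z S) (haC : a ∈ C) : a ∈ S :=
  mem_csylow hS haC (mem_centralizer_iff.mp ha.2 z (z_mem hS h.sq hzC)).symm (h.sq_of_conj ha.1)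
    fun y hy => mem_centralizer_iff.mp ha.2 y hy

theorem card_class (z : G) : Nat.card {a : G // IsConj z a} = (centralizer {z}).index := by
  symm
  refine Nat.card_eq_of_bijective
    (Quotient.lift (fun g => (⟨g * z * g⁻¹, isConj_iff.mpr ⟨g, rfl⟩⟩ : {a : G // IsConj z a}))
      fun a b hab => Subtype.ext ?_) ⟨?_, ?_⟩
  · have hab' : a⁻¹ * b ∈ centralizer {z} := QuotientGroup.leftRel_apply.mp hab
    rw [mem_centralizer_singleton_iff] at hab'
    calc a * z * a⁻¹ = a * (z * (a⁻¹ * b)) * b⁻¹ := by group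
      _ = a * (a⁻¹ * b * z) * b⁻¹ := by rw [hab']
      _ = b * z * b⁻¹ := by group
  · intro x y
    induction x using Quotient.inductionOn with | h a => ?_
    induction y using Quotient.inductionOn with | h b => ?_
    intro hab
    have hab' : a * z * a⁻¹ = b * z * b⁻¹ := congrArg Subtype.val hab
    refine Quotient.sound (QuotientGroup.leftRel_apply.mpr ?_)
    rw [mem_centralizer_singleton_iff]
    calc a⁻¹ * b * z = a⁻¹ * (b * z * b⁻¹) * b := by group
      _ = a⁻¹ * (a * z * a⁻¹) * b := by rw [hab']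
      _ = z * (a⁻¹ * b) := by group
  · rintro ⟨a, ha⟩
    obtain ⟨c, rfl⟩ := isConj_iff.mp ha
    exact ⟨Quotient.mk _ c, rfl⟩

theorem card_oset_modEq (z : G) {S : Subgroup G} (hS : IsPGroup 2 S) :
    Nat.card {a : G // IsConj z a} ≡ Nat.card (OSet z S) [MOD 2] := by
  haveI : Fact (Nat.Prime 2) := ⟨Nat.prime_two⟩
  letI : MulAction S {a : G // IsConj z a} :=
    { smul := fun s a => ⟨(s : G) * a * (s : G)⁻¹, a.2.trans (isConj_iff.mpr ⟨s, rfl⟩)⟩
      one_smul := fun a => Subtype.ext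
        (show ((1 : S) : G) * a * ((1 : S) : G)⁻¹ = a by simp)
      mul_smul := fun s t a => Subtype.ext
        (show ((s * t : S) : G) * a * ((s * t : S) : G)⁻¹ =
          s * ((t : G) * a * (t : G)⁻¹) * (s : G)⁻¹ by simp [mul_assoc]) }
  refine (hS.card_modEq_card_fixedPoints _).trans ?_
  rw [Nat.card_eq_of_bijective (α := MulAction.fixedPoints S {a : G // IsConj z a})
    (fun a => (⟨a.1.1, a.1.2, mem_centralizer_iff.mpr fun y hy =>
      mul_inv_eq_iff_eq_mul.mp (congrArg Subtype.val (a.2 ⟨y, hy⟩))⟩ : OSet z S))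
    ⟨fun a b hab => Subtype.ext (Subtype.ext (congrArg (fun o : OSet z S => (o : G)) hab)),
      fun a => ⟨⟨⟨a.1, a.2.1⟩, fun s => Subtype.ext
        (mul_inv_eq_iff_eq_mul.mpr (mem_centralizer_iff.mp a.2.2 s s.2))⟩, rfl⟩⟩]

/-- If `t ↦ z t` preserves the conjugates centralising `S`, the class is odd. -/
theorem odd_card_of_pairing {z : G} {H : Subgroup G} (h : Setup z H) {S : Subgroup G}
    (hS : IsCSylow z ⊤ S) (hcl : ∀ t ∈ OSet z S, t ≠ z → IsConj z (z * t)) :
    Odd (Nat.card {a : G // IsConj z a}) := by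
  haveI : Fact (Nat.Prime 2) := ⟨Nat.prime_two⟩
  have hzS : z ∈ S := z_mem hS h.sq (mem_top z)
  have hzO : z ∈ OSet z S := ⟨IsConj.refl z, mem_centralizer_iff.mpr fun y hy => mem_centralizer_zero hS hy⟩
  classical
  haveI := Fintype.ofFinite (OSet z S)
  let f : OSet z S → OSet z S := fun t =>
    if ht : (t : G) = z then t else ⟨z * t, hcl t t.2 ht,
      mul_mem hzO.2 t.2.2⟩
  have hff : ∀ t, f (f t) = t := by
    intro t
    by_cases ht : (t : G) = z
    · simp [f, ht]
    · have h1 : z * (t : G) ≠ z := fun he => by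
        rw [mul_eq_left] at he
        have := isConj_iff.mp t.2.1
        obtain ⟨c, hc⟩ := this
        rw [he, conj_eq_one_iff] at hc
        exact h.ne_one hc
      simp only [f, dif_neg ht, dif_neg h1, ← mul_assoc, h.sq, one_mul]
  let σ : Equiv.Perm (OSet z S) := ⟨f, f, hff, hff⟩
  have hσ : σ ^ 2 = 1 := Equiv.ext fun t => hff t
  have hsupp : Finset.univ = insert (⟨z, hzO⟩ : OSet z S) σ.support := by
    refine (Finset.eq_univ_iff_forall.mpr fun t => ?_).symm
    rw [Finset.mem_insert, Equiv.Perm.mem_support]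
    by_cases ht : (t : G) = z
    · exact Or.inl (Subtype.ext ht)
    · refine Or.inr fun he => h.ne_one ?_
      have he' := congrArg Subtype.val he
      simp only [σ, Equiv.coe_fn_mk, f, dif_neg ht, mul_eq_right] at he'
      exact he'
  have heven : 2 ∣ σ.support.card := by
    rw [← Equiv.Perm.sum_cycleType]
    refine Multiset.dvd_sum fun n hn => ?_
    have hdvd := (Equiv.Perm.dvd_of_mem_cycleType hn).trans (orderOf_dvd_of_pow_eq_one hσ)
    have h2 := Equiv.Perm.two_le_of_mem_cycleType hn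
    have := Nat.le_of_dvd (by norm_num) hdvd
    exact ⟨1, by omega⟩
  have hcard : Nat.card (OSet z S) = σ.support.card + 1 := by
    rw [Nat.card_eq_fintype_card, ← Finset.card_univ, hsupp, Finset.card_insert_of_notMem]
    rw [Equiv.Perm.mem_support, not_not]
    simp [σ, f]
  have hmod := card_oset_modEq z hS.pgroup
  rw [hcard] at hmod
  rw [Nat.odd_iff]
  unfold Nat.ModEq at hmod
  omega

theorem csylow_index_odd {z : G} (hodd : Odd (Nat.card {a : G // IsConj z a})) {S : Subgroup G}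
    (hS : IsCSylow z ⊤ S) : ¬ 2 ∣ S.index := by
  haveI : Fact (Nat.Prime 2) := ⟨Nat.prime_two⟩
  have hle : S ≤ centralizer {z} := hS.le.trans inf_le_right
  rw [← Subgroup.relIndex_mul_index hle, Nat.prime_two.dvd_mul, ← card_class]
  have h1 := hS.index
  rw [top_inf_eq] at h1
  rintro (h2 | h2)
  · exact h1 h2
  · exact absurd h2 (by rw [Nat.odd_iff] at hodd; omega)

end Finite

/-- What the induction proves. -/
def Conclusion (z : G) (H : Subgroup G) : Prop :=
  Odd (Nat.card {a : G // IsConj z a}) ∧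
    ∀ S, IsCSylow z ⊤ S → ∀ t ∈ OSet z S, t ≠ z →
      ∃ s ∈ OSet z S, z * t * s = 1 ∨ Bad z H (z * t * s)

theorem setup_subgroupOf {z : G} {H : Subgroup G} (h : Setup z H) (K : Subgroup G) (hzK : z ∈ K)
    {g : G} (hg : g ∉ H) (hgK : g ∈ K) : Setup (⟨z, hzK⟩ : K) (H.subgroupOf K) := by
  have hmem : ∀ (y c : K), y ∈ cj c (H.subgroupOf K) ↔ (y : G) ∈ cj (c : G) H := fun y c => by
    rw [mem_cj, mem_cj, mem_subgroupOf]
    rfl
  refine ⟨Subtype.ext h.sq, fun he => h.ne_one (congrArg Subtype.val he), ?_, ?_, ?_⟩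
  · intro he
    exact hg (Subgroup.subgroupOf_eq_top.mp he hgK)
  · intro c
    rw [hmem, mem_subgroupOf]
    exact h.fix c
  · intro t ht hne hc c
    rw [hmem, mem_subgroupOf]
    exact h.prod t (MonoidHom.map_isConj K.subtype ht) (fun he => hne (Subtype.ext he))
      (congrArg Subtype.val hc) c

theorem bad_of_subgroupOf {z : G} {H K : Subgroup G} {hzK : z ∈ K} {i : K}
    (hi : Bad (⟨z, hzK⟩ : K) (H.subgroupOf K) i) : Bad z H (i : G) := by
  obtain ⟨h1, h2, h3, c, hc, h4⟩ := hi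
  exact ⟨congrArg Subtype.val h1, fun he => h2 (Subtype.ext he), congrArg Subtype.val h3,
    c, fun he => hc he, congrArg Subtype.val h4⟩

end Cfsg.Agent.Lib.IsolatedPoint
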