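import Mathlib
import Cfsg.Agent.Lib.IsolatedPoint.Main
import Cfsg.Agent.Lib.IsolatedPoint.Average

/-!
The centraliser of a bad involution, and the maximal choice of one.
-/

set_option autoImplicit false

namespace Cfsg.Agent.Lib.IsolatedPoint

open Subgroup
open Cfsg.Agent.Lib.ConjFunctor (cj mem_cj)

variable {G : Type*} [Group G] [Finite G] {z : G} {H : Subgroup G}

/-- The statement for all proper subgroups. -/
def Below (G : Type*) [Group G] : Prop :=
  ∀ K : Subgroup G, K ≠ ⊤ → ∀ (z : K) (H : Subgroup K), Setup z H → Conclusion z H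

omit [Finite G] in
theorem oset_mono {S R : Subgroup G} (hle : R ≤ S) : OSet z S ⊆ OSet z R :=
  fun _ ha => ⟨ha.1, centralizer_le (SetLike.coe_subset_coe.mpr hle) ha.2⟩

omit [Finite G] in
theorem mem_centralizer_of_commute {u a : G} (h : a * u = u * a) : a ∈ centralizer ({u} : Set G) :=
  mem_centralizer_singleton_iff.mpr h

theorem bad_mem_csylow {u : G} (hu : Bad z H u) {R : Subgroup G}
    (hR : IsCSylow z (centralizer {u}) R) : u ∈ R :=
  mem_csylow hR (mem_centralizer_of_commute rfl) hu.2.2.1 hu.1 fun _ hy =>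
    mem_centralizer_singleton_iff.mp (mem_inf.mp (hR.le hy)).1

theorem oset_le_centralizer {u : G} (hu : Bad z H u) {R : Subgroup G}
    (hR : IsCSylow z (centralizer {u}) R) {a : G} (ha : a ∈ OSet z R) :
    a ∈ centralizer ({u} : Set G) :=
  mem_centralizer_of_commute (mem_centralizer_iff.mp ha.2 u (bad_mem_csylow hu hR)).symm

theorem oset_mem (h : Setup z H) {u : G} (hu : Bad z H u) {R : Subgroup G}
    (hR : IsCSylow z (centralizer {u}) R) {a : G} (ha : a ∈ OSet z R) : a ∈ R :=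
  mem_of_oset h hR (mem_centralizer_of_commute hu.2.2.1.symm) ha (oset_le_centralizer hu hR ha)

/-- What induction gives inside the centraliser of a bad involution. -/
theorem local_facts (h : Setup z H) (IH : Below G) {u : G} (hu : Bad z H u)
    (hcen : centralizer ({u} : Set G) ≠ ⊤) {R : Subgroup G}
    (hR : IsCSylow z (centralizer {u}) R) :
    ¬ 2 ∣ R.relIndex (centralizer {u}) ∧ Odd (Nat.card (OSet z R)) ∧
      (∀ a ∈ OSet z R, ∃ n ∈ centralizer {u} ⊓ normalizer (R : Set G), n * z * n⁻¹ = a) ∧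
      ∀ t ∈ OSet z R, t ≠ z → ∃ s ∈ OSet z R, z * t * s = 1 ∨ Bad z H (z * t * s) := by
  haveI : Fact (Nat.Prime 2) := ⟨Nat.prime_two⟩
  obtain ⟨g, hg, hug⟩ := hu.2.2.2
  have hzR : z ∈ R := z_mem hR h.sq (mem_centralizer_of_commute hu.2.2.1.symm)
  obtain ⟨K, hK⟩ : ∃ K, K = centralizer ({u} : Set G) := ⟨_, rfl⟩
  have hzK : z ∈ K := by rw [hK]; exact mem_centralizer_of_commute hu.2.2.1.symm
  have hbK : g * z * g⁻¹ ∈ K := by rw [hK]; exact mem_centralizer_of_commute hug.symm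
  have hRK : R ≤ K := by rw [hK]; exact hR.le.trans inf_le_left
  have hOK : ∀ a ∈ OSet z R, a ∈ K := fun a ha => by rw [hK]; exact oset_le_centralizer hu hR ha
  obtain ⟨k, hk, hke⟩ := h.exists_conj hg hzK hbK
  have hkH : k ∉ H := fun he => hg (by
    rw [← h.conj_mem_iff, ← hke]
    exact H.mul_mem (H.mul_mem he h.mem) (H.inv_mem he))
  have h' := setup_subgroupOf h K hzK hkH hk
  obtain ⟨hodd, hprod⟩ := IH K (hK ▸ hcen) _ _ h'
  have hR' : IsCSylow (⟨z, hzK⟩ : K) ⊤ (R.subgroupOf K) := by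
    have he : (⊤ : Subgroup K) ⊓ centralizer {⟨z, hzK⟩} =
        (K ⊓ centralizer {z}).subgroupOf K := by
      ext x
      simp [mem_subgroupOf, mem_centralizer_singleton_iff, Subtype.ext_iff]
    refine ⟨he ▸ fun x hx => ?_, hR.pgroup.comap_subtype, ?_⟩
    · exact mem_subgroupOf.mpr (mem_inf.mpr ⟨x.2, (mem_inf.mp (hR.le hx)).2⟩)
    · rw [he, relIndex_subgroupOf inf_le_left, hK]
      exact hR.index
  have hidx : ¬ 2 ∣ (R.subgroupOf K).index := csylow_index_odd hodd hR'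
  have hlift : ∀ a (ha : a ∈ OSet z R),
      (⟨a, hOK a ha⟩ : K) ∈ OSet (⟨z, hzK⟩ : K) (R.subgroupOf K) := by
    intro a ha
    obtain ⟨c, hc, hce⟩ := h.exists_conj_of_mem hg hzK hbK ha.1 (hOK a ha)
    exact ⟨isConj_iff.mpr ⟨⟨c, hc⟩, Subtype.ext hce⟩, mem_centralizer_iff.mpr fun y hy =>
      Subtype.ext (mem_centralizer_iff.mp ha.2 y (mem_subgroupOf.mp hy))⟩
  have hdown : ∀ a : K, a ∈ OSet (⟨z, hzK⟩ : K) (R.subgroupOf K) → (a : G) ∈ OSet z R :=
    fun a ha => ⟨MonoidHom.map_isConj K.subtype ha.1, mem_centralizer_iff.mpr fun y hy =>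
      congrArg Subtype.val (mem_centralizer_iff.mp ha.2 ⟨y, hRK hy⟩ (mem_subgroupOf.mpr hy))⟩
  refine ⟨?_, ?_, ?_, ?_⟩
  · rw [← hK]
    exact hidx
  · let e : OSet (⟨z, hzK⟩ : K) (R.subgroupOf K) ≃ OSet z R :=
      { toFun := fun a => ⟨(a : K), hdown a.1 a.2⟩
        invFun := fun a => ⟨⟨a, hOK a a.2⟩, hlift a a.2⟩
        left_inv := fun _ => rfl
        right_inv := fun _ => rfl }
    rw [← Nat.card_congr e, Nat.odd_iff]
    have hm := card_oset_modEq (⟨z, hzK⟩ : K) hR'.pgroup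
    exact Eq.trans (Eq.symm hm) (Nat.odd_iff.mp hodd)
  · intro a ha
    obtain ⟨c, hc, hce⟩ := h.exists_conj_of_mem hg hzK hbK ha.1 (hOK a ha)
    let P : Sylow 2 K := IsPGroup.toSylow hR'.pgroup hidx
    obtain ⟨n, hn, hne⟩ := P.conj_eq_normalizer_conj_of_mem_centralizer
      (⟨z, hzK⟩ : K) (⟨c, hc⟩ : K)⁻¹
      (mem_centralizer_iff.mpr fun y hy =>
        Subtype.ext (mem_centralizer_zero hR (mem_subgroupOf.mp hy)))
      (by
        rw [inv_inv, show (⟨c, hc⟩ : K) * ⟨z, hzK⟩ * (⟨c, hc⟩ : K)⁻¹ = ⟨a, hOK a ha⟩ from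
          Subtype.ext hce]
        exact (hlift a ha).2)
    refine ⟨(n : G)⁻¹, inv_mem (mem_inf.mpr ⟨hK ▸ n.2, mem_normalizer_iff.mpr fun x => ?_⟩), ?_⟩
    · have hn' := mem_normalizer_iff.mp hn
      refine ⟨fun hx => mem_subgroupOf.mp ((hn' ⟨x, hRK hx⟩).mp (mem_subgroupOf.mpr hx)),
        fun hx => ?_⟩
      have hxK : x ∈ K := by
        have := K.mul_mem (K.mul_mem (K.inv_mem n.2) (hRK hx)) n.2
        simpa [mul_assoc] using this
      exact mem_subgroupOf.mp ((hn' ⟨x, hxK⟩).mpr (mem_subgroupOf.mpr hx))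
    · have h1 := congrArg Subtype.val hne
      simp only [inv_inv, coe_mul, coe_inv] at h1
      rw [inv_inv, ← h1]
      exact hce
  · intro t ht htz
    obtain ⟨s, hs, hs'⟩ := hprod _ hR' _ (hlift t ht) fun he => htz (congrArg Subtype.val he)
    refine ⟨s, hdown s hs, hs'.imp (fun he => congrArg Subtype.val he) fun hb => ?_⟩
    exact bad_of_subgroupOf hb

omit [Finite G] in
theorem bad_conj (h : Setup z H) {u c : G} (hu : Bad z H u) (hc : c * z = z * c) :
    Bad z H (c * u * c⁻¹) := by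
  obtain ⟨h1, h2, h3, g, hg, h4⟩ := hu
  have hcz : c⁻¹ * z * c = z := by rw [mul_assoc, ← hc]; group
  refine ⟨?_, ?_, ?_, c * g, ?_, ?_⟩
  · rw [show c * u * c⁻¹ * (c * u * c⁻¹) = c * (u * u) * c⁻¹ by group, h1]; group
  · rwa [Ne, conj_eq_one_iff]
  · calc c * u * c⁻¹ * z = c * (u * (c⁻¹ * z * c)) * c⁻¹ := by group
      _ = c * (z * u) * c⁻¹ := by rw [hcz, h3]
      _ = c * z * u * c⁻¹ := by group
      _ = z * (c * u * c⁻¹) := by rw [hc]; group
  · intro he
    exact hg (by simpa using H.mul_mem (H.inv_mem (h.mem_of_comm hc)) he)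
  · calc c * u * c⁻¹ * (c * g * z * (c * g)⁻¹) = c * (u * (g * z * g⁻¹)) * c⁻¹ := by group
      _ = c * ((g * z * g⁻¹) * u) * c⁻¹ := by rw [h4]
      _ = c * g * z * (c * g)⁻¹ * (c * u * c⁻¹) := by group

omit [Finite G] in
theorem csylow_conj {u c : G} (hc : c * z = z * c) {R : Subgroup G}
    (hR : IsCSylow z (centralizer {u}) R) :
    IsCSylow z (centralizer {c * u * c⁻¹}) (cj c R) := by
  have he : cj c (centralizer {u} ⊓ centralizer {z}) =
      centralizer {c * u * c⁻¹} ⊓ centralizer {z} := by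
    have hcz : c⁻¹ * z * c = z := by rw [mul_assoc, ← hc]; group
    ext x
    simp only [mem_cj, mem_inf, mem_centralizer_singleton_iff]
    refine and_congr ⟨fun hx => ?_, fun hx => ?_⟩ ⟨fun hx => ?_, fun hx => ?_⟩
    · calc x * (c * u * c⁻¹) = c * (c⁻¹ * x * c * u) * c⁻¹ := by group
        _ = c * (u * (c⁻¹ * x * c)) * c⁻¹ := by rw [hx]
        _ = _ := by group
    · calc c⁻¹ * x * c * u = c⁻¹ * (x * (c * u * c⁻¹)) * c := by group
        _ = c⁻¹ * ((c * u * c⁻¹) * x) * c := by rw [hx]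
        _ = _ := by group
    · calc x * z = c * (c⁻¹ * x * c * (c⁻¹ * z * c)) * c⁻¹ := by group
        _ = c * ((c⁻¹ * z * c) * (c⁻¹ * x * c)) * c⁻¹ := by rw [hcz, hx]
        _ = _ := by group
    · calc c⁻¹ * x * c * z = c⁻¹ * x * c * (c⁻¹ * z * c) := by rw [hcz]
        _ = c⁻¹ * (x * z) * c := by group
        _ = c⁻¹ * (z * x) * c := by rw [hx]
        _ = c⁻¹ * z * c * (c⁻¹ * x * c) := by group
        _ = _ := by rw [hcz]
  refine ⟨he ▸ ConjFunctor.cj_mono c hR.le, ConjFunctor.isPGroup_cj c hR.pgroup, ?_⟩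
  rw [← he, ConjFunctor.relIndex_cj]
  exact hR.index

/-- The statement without a central bad involution. -/
theorem key_noncentral (h : Setup z H) (IH : Below G)
    (hnc : ∀ u, Bad z H u → centralizer ({u} : Set G) ≠ ⊤) {S : Subgroup G}
    (hS : IsCSylow z ⊤ S) {t : G} (ht : t ∈ OSet z S) (htz : t ≠ z) :
    IsConj z (z * t) ∨ ¬ 2 ∣ S.index ∧ ∃ s ∈ OSet z S, Bad z H (z * t * s) := by
  haveI : Fact (Nat.Prime 2) := ⟨Nat.prime_two⟩
  have hzS : z ∈ S := z_mem hS h.sq (mem_top z)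
  have htc : t * z = z * t := (mem_centralizer_iff.mp ht.2 z hzS).symm
  by_cases hbad : ∃ i, Bad z H i
  swap
  · left
    by_contra hj
    exact hbad (h.exists_bad ht.1 htz htc hj)
  obtain ⟨i, hi⟩ := hbad
  obtain ⟨Q₀, hQ₀⟩ := exists_csylow z (centralizer {i})
  obtain ⟨R₀, ⟨u₀, hu₀, hR₀⟩, hmax⟩ :=
    Set.exists_max_image {R : Subgroup G | ∃ u, Bad z H u ∧ IsCSylow z (centralizer {u}) R}
      (fun R : Subgroup G => Nat.card R) (Set.toFinite _) ⟨Q₀, i, hi, hQ₀⟩
  obtain ⟨c, hc, hcle⟩ := ConjFunctor.exists_conj_le (p := 2) (H := (⊤ : Subgroup G) ⊓ centralizer {z})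
    (hR₀.le.trans (inf_le_inf_right _ le_top)) hR₀.pgroup hS.le hS.pgroup hS.index
  have hcz : c * z = z * c := mem_centralizer_singleton_iff.mp (mem_inf.mp hc).2
  have hu := bad_conj h hu₀ hcz
  have hR := csylow_conj hcz hR₀
  rw [← ConjFunctor.card_cj c R₀] at hmax
  generalize cj c R₀ = R at hcle hR hmax
  generalize c * u₀ * c⁻¹ = u at hu hR
  obtain ⟨-, -, -, hprod⟩ := local_facts h IH hu (hnc u hu) hR
  obtain ⟨s, hs, hs1 | hs1⟩ := hprod t (oset_mono hcle ht) htz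
  · left
    have : z * t = s := by
      rw [eq_inv_of_mul_eq_one_left hs1]
      exact inv_eq_of_mul_eq_one_right (h.sq_of_conj hs.1)
    exact this ▸ hs.1
  right
  have hzR : z ∈ R := z_mem hR h.sq (mem_centralizer_of_commute hu.2.2.1.symm)
  have hzC : z ∈ centralizer (R : Set G) :=
    mem_centralizer_iff.mpr fun y hy => mem_centralizer_zero hR hy
  have htR := oset_mono hcle ht
  obtain ⟨v, hv⟩ : ∃ v, v = z * t * s := ⟨_, rfl⟩
  rw [← hv] at hs1
  have hvC : v ∈ centralizer (R : Set G) := hv ▸ mul_mem (mul_mem hzC htR.2) hs.2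
  have hRle : R ≤ centralizer {v} ⊓ centralizer {z} := fun y hy => mem_inf.mpr
    ⟨mem_centralizer_of_commute (mem_centralizer_iff.mp hvC y hy), (mem_inf.mp (hR.le hy)).2⟩
  obtain ⟨Q, hRQ, hQle, hQp, hQi⟩ := ConjFunctor.exists_sylow_above (p := 2) hRle hR.pgroup
  have hQR : R = Q := Subgroup.eq_of_le_of_card_ge hRQ (hmax Q ⟨v, hs1, hQle, hQp, hQi⟩)
  have hRv : IsCSylow z (centralizer {v}) R := hQR ▸ ⟨hQle, hQp, hQi⟩
  obtain ⟨hidx, hodd, htrans, -⟩ := local_facts h IH hs1 (hnc v hs1) hRv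
  have hLidx : Odd (R.relIndex (centralizer {v} ⊓ normalizer (R : Set G))) := by
    rw [← relIndex_mul_relIndex R _ _ (le_inf (hRle.trans inf_le_left) le_normalizer)
      inf_le_left, ← even_iff_two_dvd, Nat.not_even_iff_odd, Nat.odd_mul] at hidx
    exact hidx.1
  have hNv : normalizer (R : Set G) ≤ centralizer {v} := by
    intro g hg
    refine mem_centralizer_of_commute ?_
    rw [hv]
    refine average_fixed R _ inf_le_right hLidx (OSet z R) (fun a ha => mem_inf.mpr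
      ⟨oset_mem h hu hR ha, ha.2⟩) (fun a ha => h.sq_of_conj ha.1) hodd ⟨IsConj.refl z, hzC⟩
      htrans (fun n hn a ha => ⟨ha.1.trans (isConj_iff.mpr ⟨n, rfl⟩),
        mem_centralizer_iff.mpr fun y hy => ?_⟩) htR hs (fun n hn => ?_) hg
    · have h1 := mem_centralizer_iff.mp ha.2 (n⁻¹ * y * n) ((mem_normalizer_iff.mp hn _).mpr
        (by rwa [show n * (n⁻¹ * y * n) * n⁻¹ = y by group]))
      calc y * (n * a * n⁻¹) = n * ((n⁻¹ * y * n) * a) * n⁻¹ := by group
        _ = n * (a * (n⁻¹ * y * n)) * n⁻¹ := by rw [h1]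
        _ = _ := by group
    · rw [← hv]
      exact mem_centralizer_singleton_iff.mp (mem_inf.mp hn).1
  obtain ⟨P, hP⟩ := hS.pgroup.exists_le_sylow
  have hRP : R = (P : Subgroup G) := by
    by_contra hne
    have hlt := ConjFunctor.lt_inf_normalizer P.2 (lt_of_le_of_ne (hcle.trans hP) hne)
    exact hlt.ne (ConjFunctor.eq_of_sylow_le (H := centralizer {v}) (inf_le_right.trans hNv)
      (P.2.to_le inf_le_left) hlt.le hidx)
  have hRS : R = S := le_antisymm hcle (hP.trans hRP.ge)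
  exact ⟨hRS ▸ hRP ▸ P.not_dvd_index, s, hRS ▸ hs, hv ▸ hs1⟩

theorem conclusion_noncentral (h : Setup z H) (IH : Below G)
    (hnc : ∀ u, Bad z H u → centralizer ({u} : Set G) ≠ ⊤) : Conclusion z H := by
  refine ⟨?_, fun S hS t ht htz => ?_⟩
  · obtain ⟨S, hS⟩ := exists_csylow z ⊤
    by_cases hall : ∀ t ∈ OSet z S, t ≠ z → IsConj z (z * t)
    · exact odd_card_of_pairing h hS hall
    · simp only [not_forall] at hall
      obtain ⟨t, ht, htz, hn⟩ := hall
      obtain ⟨hidx, -⟩ := (key_noncentral h IH hnc hS ht htz).resolve_left hn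
      rw [card_class, Nat.odd_iff]
      have hdvd := Subgroup.index_dvd_of_le (hS.le.trans inf_le_right)
      by_contra hn2
      exact hidx ((Nat.dvd_of_mod_eq_zero (by omega)).trans hdvd)
  · rcases key_noncentral h IH hnc hS ht htz with hj | ⟨-, s, hs, hs'⟩
    · have hzS : z ∈ S := z_mem hS h.sq (mem_top z)
      have hzC : z ∈ centralizer (S : Set G) :=
        mem_centralizer_iff.mpr fun y hy => mem_centralizer_zero hS hy
      refine ⟨z * t, ⟨hj, mul_mem hzC ht.2⟩, Or.inl ?_⟩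
      exact h.sq_of_conj hj
    · exact ⟨s, hs, Or.inr hs'⟩

end Cfsg.Agent.Lib.IsolatedPoint
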