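import Mathlib
import Cfsg.Agent.Lib.IsolatedPoint.Local

/-!
The induction: central bad involutions are factored out.
-/

set_option autoImplicit false

namespace Cfsg.Agent.Lib.IsolatedPoint

open Subgroup
open Cfsg.Agent.Lib.ConjFunctor (cj mem_cj)

universe u

variable {G : Type u} [Group G] [Finite G] {z : G} {H : Subgroup G}

omit [Finite G] in
theorem mem_zpowers_sq {u x : G} (hu : u * u = 1) (hx : x ∈ zpowers u) : x = 1 ∨ x = u := by
  obtain ⟨i, rfl⟩ := mem_zpowers_iff.mp hx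
  rcases Int.even_or_odd i with ⟨k, rfl⟩ | ⟨k, rfl⟩
  · left
    rw [← two_mul, zpow_mul, zpow_two, hu, one_zpow]
  · right
    rw [zpow_add_one, zpow_mul, zpow_two, hu, one_zpow, one_mul]

/-- Conclusion passes down from the quotient by a central bad involution. -/
theorem conclusion_central (h : Setup z H) {u : G} (hu : Bad z H u)
    (huc : ∀ g : G, g * u = u * g) [hN : (zpowers u).Normal]
    (IH : ∀ (z' : G ⧸ zpowers u) (H' : Subgroup (G ⧸ zpowers u)), Setup z' H' → Conclusion z' H') :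
    Conclusion z H := by
  have huH : u ∈ H := h.mem_of_comm hu.2.2.1
  obtain ⟨q, hqdef⟩ : ∃ q, q = QuotientGroup.mk' (zpowers u) := ⟨_, rfl⟩
  have hqs : Function.Surjective q := hqdef ▸ QuotientGroup.mk'_surjective _
  have hker : q.ker = zpowers u := hqdef ▸ QuotientGroup.ker_mk' _
  have heq : ∀ {x y : G}, q x = q y → y = x ∨ y = x * u := by
    intro x y hxy
    have h1 : x⁻¹ * y ∈ q.ker := by rw [MonoidHom.mem_ker, map_mul, map_inv, hxy, inv_mul_cancel]
    rw [hker] at h1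
    exact (mem_zpowers_sq hu.1 h1).imp (inv_mul_eq_one.mp · |>.symm) (eq_mul_of_inv_mul_eq ·)
  have hlift : ∀ {c a : G}, IsConj z a → q c * q a = q a * q c → c * a = a * c := by
    intro c a ha hca
    refine h.comm_of_comm_mod huc hu.2.1 huH ha (heq ?_)
    rw [map_mul, map_mul, map_inv, hca, mul_inv_cancel_right]
  have hinj : ∀ {a b : G}, IsConj z a → IsConj z b → q a = q b → b = a := fun ha hb hab =>
    (heq hab).resolve_right fun he => h.not_conj_mul_central huc hu.2.1 huH ha (he ▸ hb)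
  have hmemH : ∀ x, q x ∈ H.map q ↔ x ∈ H := by
    refine fun x => ⟨?_, mem_map_of_mem q⟩
    rintro ⟨y, hy, hxy⟩
    rcases heq hxy with rfl | rfl
    · exact hy
    · exact H.mul_mem hy huH
  have hcj : ∀ x g : G, q x ∈ cj (q g) (H.map q) ↔ x ∈ cj g H := fun x g => by
    rw [mem_cj, mem_cj, ← map_inv, ← map_mul, ← map_mul, hmemH]
  have hconjlift : ∀ {a' : G ⧸ zpowers u}, IsConj (q z) a' → ∃ a, IsConj z a ∧ q a = a' := by
    intro a' ha'
    obtain ⟨c', hc'⟩ := isConj_iff.mp ha'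
    obtain ⟨c, rfl⟩ := hqs c'
    exact ⟨c * z * c⁻¹, isConj_iff.mpr ⟨c, rfl⟩, by rw [map_mul, map_mul, map_inv, hc']⟩
  have h' : Setup (q z) (H.map q) := by
    refine ⟨by rw [← map_mul, h.sq, map_one], fun he => ?_, fun he => h.proper ?_, ?_, ?_⟩
    · rcases heq (he.trans (map_one q).symm) with h1 | h1
      · exact h.ne_one h1.symm
      · refine h.proper (eq_top_iff.mpr fun g _ => h.mem_of_comm ?_)
        have hzu : z = u := by
          have h2 : z * u = 1 := h1.symm
          rw [eq_inv_of_mul_eq_one_left h2, inv_eq_of_mul_eq_one_right hu.1]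
        rw [hzu, huc]
    · exact eq_top_iff.mpr fun g _ => (hmemH g).mp (he ▸ mem_top _)
    · intro g'
      obtain ⟨g, rfl⟩ := hqs g'
      rw [hcj, hmemH]
      exact h.fix g
    · intro t' ht' hne hc g'
      obtain ⟨g, rfl⟩ := hqs g'
      obtain ⟨t, ht, rfl⟩ := hconjlift ht'
      rw [← map_mul, hcj, hmemH]
      exact h.prod t ht (fun he => hne (he ▸ rfl)) (hlift (IsConj.refl z) hc) g
  obtain ⟨hodd, hprod⟩ := IH _ _ h'
  refine ⟨?_, fun S hS t ht htz => ?_⟩
  · rw [Nat.card_eq_of_bijective (β := {a // IsConj (q z) a})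
      (fun a : {a // IsConj z a} => ⟨q a, MonoidHom.map_isConj q a.2⟩)
      ⟨fun a b hab => Subtype.ext (hinj b.2 a.2 (congrArg Subtype.val hab).symm), fun a' => ?_⟩]
    · exact hodd
    · obtain ⟨a, ha, hqa⟩ := hconjlift a'.2
      exact ⟨⟨a, ha⟩, Subtype.ext hqa⟩
  have hzS : z ∈ S := z_mem hS h.sq (mem_top z)
  have huS : u ∈ S := mem_csylow hS (mem_top u) hu.2.2.1 hu.1 fun y _ => huc y
  have hS' : IsCSylow (q z) ⊤ (S.map q) := by
    have he : (⊤ : Subgroup (G ⧸ zpowers u)) ⊓ centralizer {q z} =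
        ((⊤ : Subgroup G) ⊓ centralizer {z}).map q := by
      rw [top_inf_eq, top_inf_eq]
      refine le_antisymm (fun x hx => ?_) ?_
      · obtain ⟨c, rfl⟩ := hqs x
        exact mem_map_of_mem q (mem_centralizer_singleton_iff.mpr
          (hlift (IsConj.refl z) (mem_centralizer_singleton_iff.mp hx)))
      · rintro _ ⟨c, hc, rfl⟩
        rw [mem_centralizer_singleton_iff, ← map_mul, ← map_mul,
          mem_centralizer_singleton_iff.mp hc]
    refine ⟨he ▸ map_mono hS.le, hS.pgroup.map q, ?_⟩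
    rw [he, ← relIndex_comap, comap_map_eq, hker, sup_eq_left.mpr (zpowers_le.mpr huS)]
    exact hS.index
  have ht' : q t ∈ OSet (q z) (S.map q) := by
    refine ⟨MonoidHom.map_isConj q ht.1, mem_centralizer_iff.mpr ?_⟩
    rintro _ ⟨y, hy, rfl⟩
    rw [← map_mul, ← map_mul, mem_centralizer_iff.mp ht.2 y hy]
  obtain ⟨s', hs', hs''⟩ := hprod _ hS' _ ht' fun he => htz (hinj (IsConj.refl z) ht.1 he.symm)
  obtain ⟨s, hs, rfl⟩ := hconjlift hs'.1
  have hsO : s ∈ OSet z S := ⟨hs, mem_centralizer_iff.mpr fun y hy =>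
    hlift hs (mem_centralizer_iff.mp hs'.2 (q y) ⟨y, hy, rfl⟩)⟩
  refine ⟨s, hsO, ?_⟩
  rw [← map_mul, ← map_mul] at hs''
  rcases hs'' with h1 | ⟨-, hi1, hiz, g', hg', hib⟩
  · rcases heq (h1.trans (map_one q).symm) with h2 | h2
    · exact Or.inl h2.symm
    · refine Or.inr ?_
      have h3 : z * t * s = u := by
        rw [eq_inv_of_mul_eq_one_left h2.symm, inv_eq_of_mul_eq_one_right hu.1]
      rwa [h3]
  · obtain ⟨g, rfl⟩ := hqs g'
    have htS : t ∈ S := mem_of_oset h hS (mem_top z) ht (mem_top t)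
    have hzs : z * s = s * z := mem_centralizer_iff.mp hsO.2 z hzS
    have hts : t * s = s * t := mem_centralizer_iff.mp hsO.2 t htS
    have hzt : z * t = t * z := mem_centralizer_iff.mp ht.2 z hzS
    refine Or.inr ⟨?_, fun he => hi1 (by rw [he, map_one]), ?_, g,
      fun he => hg' (mem_map_of_mem q he), ?_⟩
    · have hc : Commute (z * t) s := Commute.mul_left hzs hts
      have hzt2 : (z * t) * (z * t) = 1 := (comm_iff_inv_eq h.sq (h.sq_of_conj ht.1)).mpr hzt
      exact (comm_iff_inv_eq hzt2 (h.sq_of_conj hs)).mpr hc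
    · exact hlift (IsConj.refl z) hiz
    · refine hlift (isConj_iff.mpr ⟨g, rfl⟩) ?_
      simpa [map_mul, map_inv] using hib

theorem conclusion (n : ℕ) : ∀ (G : Type u) [Group G] [Finite G] (z : G) (H : Subgroup G),
    Nat.card G ≤ n → Setup z H → Conclusion z H := by
  induction n with
  | zero => exact fun G _ _ z H hn _ => absurd hn (not_le.mpr Nat.card_pos)
  | succ n ih =>
    intro G _ _ z H hn h
    by_cases hc : ∃ u, Bad z H u ∧ centralizer ({u} : Set G) = ⊤
    · obtain ⟨u, hu, hcu⟩ := hc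
      have huc : ∀ g : G, g * u = u * g := fun g =>
        mem_centralizer_singleton_iff.mp (hcu ▸ mem_top g)
      haveI : (zpowers u).Normal := ⟨fun x hx g => by
        obtain ⟨i, rfl⟩ := mem_zpowers_iff.mp hx
        rw [← conj_zpow, mul_inv_eq_iff_eq_mul.mpr (huc g)]
        exact hx⟩
      refine conclusion_central h hu huc fun z' H' h' => ih _ z' H' ?_ h'
      have h2 := Subgroup.card_eq_card_quotient_mul_card_subgroup (zpowers u)
      have h3 : 2 ≤ Nat.card (zpowers u) := by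
        rw [Nat.card_zpowers]
        have := orderOf_pos u
        have h4 : orderOf u ≠ 1 := fun he => hu.2.1 (orderOf_eq_one_iff.mp he)
        omega
      have h5 : 0 < Nat.card (G ⧸ zpowers u) := Nat.card_pos
      have h6 := Nat.mul_le_mul_left (Nat.card (G ⧸ zpowers u)) h3
      omega
    · refine conclusion_noncentral h (fun K hK z' H' h' => ih K z' H' ?_ h')
        fun u hu hcu => hc ⟨u, hu, hcu⟩
      have h2 := ConjFunctor.card_lt_card_of_lt (lt_top_iff_ne_top.mpr hK)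
      rw [Subgroup.card_top] at h2
      omega

omit [Finite G] in
theorem orderOf_two_iff {z : G} (hz : orderOf z = 2) : z * z = 1 ∧ z ≠ 1 := by
  refine ⟨?_, fun he => ?_⟩
  · rw [← sq, ← hz, pow_orderOf_eq_one]
  · rw [he, orderOf_one] at hz
    exact absurd hz (by norm_num)

/-- (1) implies that `z` is central in a Sylow 2-subgroup. -/
theorem exists_central_sylow (h : Setup z H) :
    ∃ P : Sylow 2 G, z ∈ (Subgroup.center ↥(P : Subgroup G)).map (P : Subgroup G).subtype := by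
  haveI : Fact (Nat.Prime 2) := ⟨Nat.prime_two⟩
  obtain ⟨hodd, -⟩ := conclusion _ G z H le_rfl h
  obtain ⟨S, hS⟩ := exists_csylow z ⊤
  let P : Sylow 2 G := IsPGroup.toSylow hS.pgroup (csylow_index_odd hodd hS)
  refine ⟨P, ⟨z, z_mem hS h.sq (mem_top z)⟩, ?_, rfl⟩
  exact mem_center_iff.mpr fun y => Subtype.ext (mem_centralizer_zero hS y.2)

/-- (2) implies (1). -/
theorem prod_of_conditions (hsq : z * z = 1) (h0 : ∀ g : G, z ∈ cj g H ↔ g ∈ H) (P : Sylow 2 G)
    (hzP : ∀ y ∈ (P : Subgroup G), y * z = z * y) {t : G} (ht : IsConj z t) (hne : t ≠ z)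
    (hc : t * z = z * t) (hC : centralizer ({z * t} : Set G) ≤ H) (g : G) :
    z * t ∈ cj g H ↔ g ∈ H := by
  haveI : Fact (Nat.Prime 2) := ⟨Nat.prime_two⟩
  have hmem : z ∈ H := by
    have h1 := (h0 1).mpr H.one_mem
    rwa [ConjFunctor.cj_one] at h1
  have hCz : centralizer {z} ≤ H := fun c hcm => by
    refine (h0 c).mp ?_
    rw [mem_cj, mul_assoc, ← mem_centralizer_singleton_iff.mp hcm, inv_mul_cancel_left]
    exact hmem
  have htt : t * t = 1 := by
    obtain ⟨c, rfl⟩ := isConj_iff.mp ht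
    rw [show c * z * c⁻¹ * (c * z * c⁻¹) = c * (z * z) * c⁻¹ by group, hsq]
    group
  have hzt : z * t * (z * t) = 1 := (comm_iff_inv_eq hsq htt).mpr hc.symm
  have hztH : z * t ∈ H := H.mul_mem hmem (hCz (mem_centralizer_singleton_iff.mpr hc))
  refine ⟨fun hm => ?_, fun hg => ?_⟩
  swap
  · rw [mem_cj]
    exact H.mul_mem (H.mul_mem (H.inv_mem hg) hztH) hg
  rw [mem_cj] at hm
  obtain ⟨j, hj⟩ : ∃ j, j = g⁻¹ * (z * t) * g := ⟨_, rfl⟩
  rw [← hj] at hm
  have hjj : j * j = 1 := by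
    rw [hj, show g⁻¹ * (z * t) * g * (g⁻¹ * (z * t) * g) = g⁻¹ * (z * t * (z * t)) * g by group,
      hzt]
    group
  have hjp : IsPGroup 2 (zpowers j) := by
    rintro ⟨y, hy⟩
    refine ⟨1, Subtype.ext ?_⟩
    rcases mem_zpowers_sq hjj hy with rfl | rfl
    · exact one_pow _
    · show y ^ (2 ^ 1) = 1
      rw [pow_one, sq, hjj]
  have hPH : (P : Subgroup G) ≤ H := fun y hy => hCz (mem_centralizer_singleton_iff.mpr (hzP y hy))
  obtain ⟨k, hk, hle⟩ := ConjFunctor.exists_conj_le (p := 2) (zpowers_le.mpr hm) hjp hPH P.2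
    fun hd => P.not_dvd_index (hd.trans (relIndex_dvd_index_of_le hPH))
  have hkj := hzP _ (hle (ConjFunctor.conj_mem_cj (mem_zpowers j)))
  have hx : g * (k⁻¹ * z * k) * g⁻¹ ∈ H := by
    refine hC (mem_centralizer_singleton_iff.mpr ?_)
    have hzt' : z * t = g * j * g⁻¹ := by rw [hj]; group
    rw [hzt']
    calc g * (k⁻¹ * z * k) * g⁻¹ * (g * j * g⁻¹) = g * k⁻¹ * (z * (k * j * k⁻¹)) * k * g⁻¹ := by
          group
      _ = g * k⁻¹ * ((k * j * k⁻¹) * z) * k * g⁻¹ := by rw [hkj]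
      _ = _ := by group
  have hgk : (g * k⁻¹)⁻¹ ∈ H := by
    refine (h0 _).mp ?_
    rw [mem_cj, inv_inv]
    rwa [show g * k⁻¹ * z * (g * k⁻¹)⁻¹ = g * (k⁻¹ * z * k) * g⁻¹ by group]
  have := H.mul_mem (inv_mem_iff.mp hgk) hk
  rwa [inv_mul_cancel_right] at this

end Cfsg.Agent.Lib.IsolatedPoint
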